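import Groth.Agent.CycLib.ProjBdl.ChernFunct
import Groth.Agent.S17574

/-!
Elementary properties of the defining relation of Chern class caps.
-/

set_option autoImplicit false
set_option linter.style.haveILetI false
set_option linter.unusedSectionVars false

universe u

open CategoryTheory CategoryTheory.Limits AlgebraicGeometry

namespace Groth.Agent.Bivar35

open Groth.Agent.CycLib Groth.Agent.CycLib.Dev Groth.Agent.CycLib.ProjBdl

variable {X P : Scheme.{u}} {p : P ⟶ X} {O1 : P.Modules} {r : ℕ} (L : Cov p O1 r) (hr : 1 ≤ r)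
  {δ : X → ℤ} {δP : P → ℤ} (hX : Cyc.IsSetup X δ) (hPs : Cyc.IsSetup P δP) (hδ : Cyc.DeltaCompat p δP δ)
  (hinv : PicF.IsInvertible O1) [IsLocallyNoetherian P] [IsProper p] (k : ℤ)

theorem iter_sub {δP : P → ℤ} (hd : Cyc.IsDimFun P δP) (hinv : PicF.IsInvertible O1) {m : ℤ} {a b : P → ℤ}
    (ha : IsCyc δP m a) (hb : IsCyc δP m b) (t : ℕ → (ξ : P) → Cyc.secFibre O1 ξ) (ht : ∀ i ξ, t i ξ ≠ 0) (n : ℕ) :
    Cov.iter δP (a - b) t n = Cov.iter δP a t n - Cov.iter δP b t n := by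
  induction n with
  | zero => rfl
  | succ n ih =>
    have hca := isCyc_iterate hd hinv ha t ht n
    have hcb := isCyc_iterate hd hinv hb t ht n
    rw [show m - n = m - (n + 1 : ℕ) + 1 by push_cast; ring] at hca hcb
    show Cyc.c1CapFun δP O1 (Cov.iter δP (a - b) t n) (t n) = _
    rw [ih]
    exact (c1_sub hca hcb (t n)).symm ▸ rfl

theorem pullFun_sub {A B : Scheme.{u}} (g : A ⟶ B) (δA : A → ℤ) (δB : B → ℤ) (c : ℤ) (a b : B → ℤ) :
    Cyc.pullFun g δA δB c (a - b) = Cyc.pullFun g δA δB c a - Cyc.pullFun g δA δB c b := by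
  funext x
  simp only [Cyc.pullFun, Pi.sub_apply]
  split_ifs <;> ring

include L hr hX hPs hδ hinv in
/-- The relation is closed under sums. -/
theorem isChernCap_add (α β : AlgebraicCycle X ℤ) (γ ε : Fin (r + 1) → AlgebraicCycle X ℤ)
    (hγ : Cyc.IsChernCap p δ δP O1 r k α γ) (hε : Cyc.IsChernCap p δ δP O1 r k β ε) :
    Cyc.IsChernCap p δ δP O1 r k (α + β) fun j => γ j + ε j := by
  classical
  choose σ hσ using exists_isBas hinv
  let t : ℕ → (ξ : P) → Cyc.secFibre O1 ξ := fun _ ξ => Submodule.Quotient.mk (σ ξ)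
  have ht : ∀ m ξ, t m ξ ≠ 0 := fun _ ξ => mk_ne_zero_of_isBas (hσ ξ)
  have hm : ∀ j : Fin (r + 1), γ j + ε j ∈ Cyc.Zk X δ (k - ((j : ℕ) : ℤ)) := fun j =>
    (ChowOps.zk X δ _).add_mem (hγ.2.1 j) (hε.2.1 j)
  rw [L.isChernCap_iff hr hPs.2.2 hδ hinv k _ hm _ (show γ 0 + ε 0 = α + β by rw [hγ.1, hε.1]) t ht]
  have h1 := (L.isChernCap_iff hr hPs.2.2 hδ hinv k _ hγ.2.1 α hγ.1 t ht).1 hγ
  have h2 := (L.isChernCap_iff hr hPs.2.2 hδ hinv k _ hε.2.1 β hε.1 t ht).1 hε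
  have e : relSum δ δP r p (fun j => γ j + ε j) t = relSum δ δP r p γ t + relSum δ δP r p ε t := by
    rw [relSum, relSum, relSum, ← Finset.sum_add_distrib]
    refine Finset.sum_congr rfl fun i _ => ?_
    rw [← smul_add]
    congr 1
    have hc := L.isCyc_pull hr hPs.2.2 hδ _ (hm (Fin.rev i))
    have hc' := L.isCyc_pull hr hPs.2.2 hδ _ (hε.2.1 (Fin.rev i))
    have h := iter_sub hPs.2.2 hinv hc hc' t ht i
    rw [← pullFun_sub] at h
    have e0 : (⇑(γ (Fin.rev i) + ε (Fin.rev i)) : X → ℤ) - ⇑(ε (Fin.rev i)) = ⇑(γ (Fin.rev i)) := by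
      funext x; simp
    rw [e0] at h
    rw [h]
    abel
  rw [e]
  exact add_mem h1 h2

include L hr hX hPs hδ hinv in
/-- The relation only depends on the classes. -/
theorem isChernCap_congr (α : AlgebraicCycle X ℤ) (γ ζ : Fin (r + 1) → AlgebraicCycle X ℤ)
    (hγ : Cyc.IsChernCap p δ δP O1 r k α γ) (hζ : ∀ j : Fin (r + 1), ζ j ∈ Cyc.Zk X δ (k - ((j : ℕ) : ℤ)))
    (h0 : ζ 0 = α) (h : ∀ j : Fin (r + 1), (⇑(ζ j) : X → ℤ) - ⇑(γ j) ∈ (haveI := hX.1; prin hX.2.2 (k - ((j : ℕ) : ℤ)))) :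
    Cyc.IsChernCap p δ δP O1 r k α ζ := by
  classical
  haveI := hX.1
  haveI := L.flat
  choose σ hσ using exists_isBas hinv
  let t : ℕ → (ξ : P) → Cyc.secFibre O1 ξ := fun _ ξ => Submodule.Quotient.mk (σ ξ)
  have ht : ∀ m ξ, t m ξ ≠ 0 := fun _ ξ => mk_ne_zero_of_isBas (hσ ξ)
  rw [L.isChernCap_iff hr hPs.2.2 hδ hinv k _ hζ α h0 t ht]
  have h1 := (L.isChernCap_iff hr hPs.2.2 hδ hinv k _ hγ.2.1 α hγ.1 t ht).1 hγ
  suffices relSum δ δP r p ζ t - relSum δ δP r p γ t ∈ prin hPs.2.2 (k - 1) by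
    have := add_mem this h1
    rwa [sub_add_cancel] at this
  rw [relSum, relSum, ← Finset.sum_sub_distrib]
  refine sum_mem fun i _ => ?_
  rw [← smul_sub]
  refine zsmul_mem ?_ _
  have hc := L.isCyc_pull hr hPs.2.2 hδ _ (hζ (Fin.rev i))
  have hc' := L.isCyc_pull hr hPs.2.2 hδ _ (hγ.2.1 (Fin.rev i))
  obtain ⟨w, -, hw⟩ := (hc.sub hc').exists_cycle
  have hm : ζ (Fin.rev i) - γ (Fin.rev i) ∈ Cyc.Zk X δ (k - (((Fin.rev i : Fin (r + 1)) : ℕ) : ℤ)) :=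
    (ChowOps.zk X δ _).sub_mem (hζ _) (hγ.2.1 _)
  have hz : Cyc.RatEquivZero δ (k - (((Fin.rev i : Fin (r + 1)) : ℕ) : ℤ)) (ζ (Fin.rev i) - γ (Fin.rev i)) := h _
  have hp := ratEquivZero_pull_shift p hPs hX (L.shiftBy hPs.2.2 hδ) hz w fun x => by
    rw [hw, ← pullFun_sub, Function.locallyFinsuppWithin.coe_sub]
  have hp' : Cyc.pullFun p δP δ ((r : ℤ) - 1) ⇑(ζ (Fin.rev i)) - Cyc.pullFun p δP δ ((r : ℤ) - 1) ⇑(γ (Fin.rev i)) ∈
      prin hPs.2.2 (k - (((Fin.rev i : Fin (r + 1)) : ℕ) : ℤ) + (r : ℤ) - 1) := by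
    rw [← hw, show k - (((Fin.rev i : Fin (r + 1)) : ℕ) : ℤ) + (r : ℤ) - 1 =
      k - (((Fin.rev i : Fin (r + 1)) : ℕ) : ℤ) + ((r : ℤ) - 1) by ring]
    exact hp
  have h3 := iter_change hPs.2.2 hinv hc hc' hp' t t ht ht i
  convert h3 using 2
  rw [Fin.val_rev]
  have := i.2
  omega

theorem iter_congr {M M' : P.Modules} {δP : P → ℤ} (u : (ξ : P) → Cyc.secFibre M ξ)
    (u' : (ξ : P) → Cyc.secFibre M' ξ)
    (e : ∀ a : P → ℤ, Cyc.c1CapFun δP M a u = Cyc.c1CapFun δP M' a u') (a : P → ℤ) (n : ℕ) :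
    Cov.iter δP a (fun _ => u) n = Cov.iter δP a (fun _ => u') n := by
  induction n with
  | zero => rfl
  | succ n ih =>
    show Cyc.c1CapFun δP M (Cov.iter δP a (fun _ => u) n) u = _
    rw [ih, e]
    rfl

include L hr hX hPs hδ hinv in
/-- The relation may be transported along an isomorphism of fundamental sheaves. -/
theorem isChernCap_iso {M : P.Modules} (L' : Cov p M r) (hM : PicF.IsInvertible M) (φ : O1 ≅ M)
    (α : AlgebraicCycle X ℤ) (γ : Fin (r + 1) → AlgebraicCycle X ℤ) (hγ : Cyc.IsChernCap p δ δP O1 r k α γ) :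
    Cyc.IsChernCap p δ δP M r k α γ := by
  obtain ⟨u, u', hu, hu', e⟩ := S17574.exists_transport hPs hinv hM φ
  have h := (L.isChernCap_iff hr hPs.2.2 hδ hinv k _ hγ.2.1 α hγ.1 (fun _ => u) fun _ => hu).1 hγ
  rw [L'.isChernCap_iff hr hPs.2.2 hδ hM k _ hγ.2.1 α hγ.1 (fun _ => u') fun _ => hu']
  convert h using 1
  rw [relSum, relSum]
  exact Finset.sum_congr rfl fun i _ => by rw [iter_congr u u' e]

end Groth.Agent.Bivar35
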