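import Groth.Agent.ProjBundleLib.EpiComp
import Groth.Agent.S5732
import Groth.Agent.PerfTri.Betti
import Groth.Agent.Desc44.ProjBundle.Chart
import Groth.Agent.ProjTwist.Tensor
import Groth.Prelude.Def_KRR

/-!
Projective bundles of finite locally free modules, in the form of `KRR.IsProjBundle`.
-/

set_option autoImplicit false
set_option linter.style.haveILetI false

universe u

open CategoryTheory CategoryTheory.Limits AlgebraicGeometry

namespace Groth.Agent.Bivar35

open Groth.Agent.ProjBundleLib

/-- A finite locally free module has a proper projective bundle. -/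
theorem exists_isProjBundle {X : Scheme.{u}} {E : X.Modules} {r : ℕ} (hE : FlatMod.IsFinLocFreeOfRank r E) :
    ∃ (P : Scheme.{u}) (p : P ⟶ X) (O1 : P.Modules) (q : (Scheme.Modules.pullback p).obj E ⟶ O1),
      IsProper p ∧ KRR.IsProjBundle p E O1 q := by
  have hF : FlatMod.IsFinLocFree E := fun x => by
    obtain ⟨U, hx, e⟩ := hE x
    exact ⟨U, r, hx, e⟩
  haveI hq : E.IsQuasicoherent := PerfTri.Betti.isQuasicoherent_of_isFinLocFree hF
  obtain ⟨B⟩ := exists_bundle E
  have hinv := isInvertible_O1 B
  refine ⟨B.P, B.p, B.O1, ((Scheme.Modules.pullbackPushforwardAdjunction B.p).homEquiv E B.O1).symm B.φ,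
    isProper_bundle hF B, ProjTwist.isFinLocFreeOfRank_one hinv,
    S5732.result E hq B.alg B.j B.hj B.p B.chart B.hP B.O1 B.lam B.hO1 B.φ B.hφ, fun T g L hL s hs => ?_⟩
  exact existsUnique_hom B.hj B.hP B.hO1 B.hφ (Desc44.ProjBundle.isInvertible_of_rank_one hL) s hs

end Groth.Agent.Bivar35
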