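import Groth.Agent.CycLib.ProjBdl.BundleBC

/-!
Projective bundles of the same module are isomorphic, compatibly with the fundamental sheaves.
-/

set_option autoImplicit false
set_option linter.style.haveILetI false

universe u

open CategoryTheory CategoryTheory.Limits AlgebraicGeometry
open AlgebraicGeometry.Scheme.Modules

namespace Groth.Agent.Bivar35

variable {X P P' P'' : Scheme.{u}} {π : P ⟶ X} {π' : P' ⟶ X} {π'' : P'' ⟶ X} {E : X.Modules}
  {O1 : P.Modules} {O1' : P'.Modules} {O1'' : P''.Modules}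
  {q : (Scheme.Modules.pullback π).obj E ⟶ O1} {q' : (Scheme.Modules.pullback π').obj E ⟶ O1'}
  {q'' : (Scheme.Modules.pullback π'').obj E ⟶ O1''}

/-- `h` together with `e` carries the quotient `q` to the quotient `s`. -/
def Carries (q : (Scheme.Modules.pullback π).obj E ⟶ O1) {T : Scheme.{u}} {g : T ⟶ X} {L : T.Modules}
    (s : (Scheme.Modules.pullback g).obj E ⟶ L) (h : T ⟶ P) : Prop :=
  ∃ (hg : h ≫ π = g) (e : (Scheme.Modules.pullback h).obj O1 ≅ L),
    (pullbackCongr hg).inv.app E ≫ (pullbackComp h π).inv.app E ≫ (Scheme.Modules.pullback h).map q ≫ e.hom = s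

theorem carries_trans {h : P' ⟶ P} (hh : Carries q q' h) {h' : P'' ⟶ P'} (hh' : Carries q' q'' h') :
    Carries q q'' (h' ≫ h) := by
  obtain ⟨hg, e, he⟩ := hh
  obtain ⟨hg', e', he'⟩ := hh'
  subst hg
  subst hg'
  refine ⟨Category.assoc _ _ _, ((pullbackComp h' h).app O1).symm ≪≫ (Scheme.Modules.pullback h').mapIso e ≪≫ e', ?_⟩
  rw [← he', ← he]
  simp only [Functor.map_comp, Iso.trans_hom, Iso.symm_hom, Iso.app_inv, Functor.mapIso_hom]
  have hc : ∀ {A B : Scheme.{u}} (f : A ⟶ B) (M : B.Modules),
      (pullbackCongr (rfl : f = f)).inv.app M = 𝟙 _ := fun f M => by simp [pullbackCongr]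
  simp only [hc, Category.id_comp, Category.assoc, Functor.map_id]
  have nat := (pullbackComp h' h).inv.naturality q
  simp only [Functor.comp_map] at nat
  rw [reassoc_of% nat]
  have A := Groth.Agent.CycLib.ProjBdl.comp_assoc_app h' h π E
  erw [CategoryTheory.Functor.map_id, Category.id_comp, Category.id_comp]
  rw [reassoc_of% A]
  simp [pullbackCongr]
  exact (Category.id_comp _).symm

theorem carries_refl : Carries q q (𝟙 P) := by
  refine ⟨Category.id_comp _, (pullbackId P).app O1, ?_⟩
  have nat := (pullbackId P).hom.naturality q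
  simp only [Functor.id_map] at nat
  simp only [Iso.app_hom]
  rw [nat]
  have h0 := congr_app (Scheme.Modules.pseudofunctor_right_unitality (f := π)) E
  simp only [NatTrans.comp_app, Functor.whiskerLeft_app, Functor.rightUnitor_hom_app, Category.comp_id,
    eqToHom_app] at h0
  have : ∀ {A B : Scheme.{u}} {a b : A ⟶ B} (e : a = b) (M : B.Modules),
      (pullbackCongr e).inv.app M = eqToHom (by subst e; rfl) := fun e M => by subst e; simp [pullbackCongr]
  rw [this, reassoc_of% h0]
  simp

/-- Projective bundles of one module are isomorphic over the base, compatibly with the fundamental sheaves. -/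
theorem exists_iso (hP : KRR.IsProjBundle π E O1 q) (hP' : KRR.IsProjBundle π' E O1' q') :
    ∃ h : P' ⟶ P, IsIso h ∧ h ≫ π = π' ∧ Nonempty ((Scheme.Modules.pullback h).obj O1 ≅ O1') := by
  obtain ⟨h, hh, -⟩ := hP.univ P' π' O1' hP'.invertible q' hP'.epi
  obtain ⟨h', hh', -⟩ := hP'.univ P π O1 hP.invertible q hP.epi
  have e1 : h' ≫ h = 𝟙 P := (hP.univ P π O1 hP.invertible q hP.epi).unique (carries_trans hh hh') carries_refl
  have e2 : h ≫ h' = 𝟙 P' := (hP'.univ P' π' O1' hP'.invertible q' hP'.epi).unique (carries_trans hh' hh) carries_refl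
  exact ⟨h, ⟨⟨h', e2, e1⟩⟩, hh.1, ⟨hh.2.choose⟩⟩

end Groth.Agent.Bivar35
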